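import Cfsg.Agent.H951.Rs.FullP
import Cfsg.Agent.H925.Rs.Fct

/-!
# Sections of a reducible factor (S3691, SECT, helper951)

`exists_sect`
-/

set_option autoImplicit false
set_option linter.unusedSectionVars false

namespace Cfsg.Agent.H951.Rs

open Module Cfsg.Agent.H925.Rs Cfsg.Agent.H884.El
open Cfsg.Agent.H951 (fx cm Inv Nd)

universe v w

variable {F : Type v} [Field F] {V : Type w} [AddCommGroup V] [Module F V] {B : LinearMap.BilinForm F V}
  {C : Subgroup (V ≃ₗ[F] V)} {S : Submodule F V}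

/-- the stabiliser of `S` in the isometry group -/
def St (B : LinearMap.BilinForm F V) (S : Submodule F V) : Subgroup (V ≃ₗ[F] V) where
  carrier := {g | g ∈ Isos B ∧ ∀ s, g s ∈ S ↔ s ∈ S}
  mul_mem' := by
    rintro g h ⟨h1, h2⟩ ⟨h3, h4⟩
    refine ⟨(Isos B).mul_mem h1 h3, fun s => ?_⟩
    change g (h s) ∈ S ↔ _
    rw [h2, h4]
  one_mem' := ⟨(Isos B).one_mem, fun _ => Iff.rfl⟩
  inv_mem' := by
    rintro g ⟨h1, h2⟩
    refine ⟨(Isos B).inv_mem h1, fun s => ?_⟩
    have e1 : g (g⁻¹ s) = s := g.apply_symm_apply s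
    rw [← h2, e1]

theorem mem_St {g : V ≃ₗ[F] V} : g ∈ St B S ↔ g ∈ Isos B ∧ ∀ s, g s ∈ S ↔ s ∈ S := Iff.rfl

theorem le_St (hC : C ≤ Isos B) (inv : ∀ c ∈ C, ∀ s ∈ S, c s ∈ S) : C ≤ St B S := by
  intro c hc
  refine ⟨hC hc, fun s => ⟨fun h => ?_, inv c hc s⟩⟩
  have h1 := inv c⁻¹ (C.inv_mem hc) _ h
  have e1 : c⁻¹ (c s) = s := c.symm_apply_apply s
  rwa [e1] at h1

theorem mem_St_of [FiniteDimensional F V] {y : V ≃ₗ[F] V} (hy : y ∈ Isos B) (h : ∀ s ∈ S, y s ∈ S) : y ∈ St B S := by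
  refine ⟨hy, fun s => ⟨fun hs => ?_, h s⟩⟩
  have h1 : S.map (y : V →ₗ[F] V) = S := by
    apply Submodule.eq_of_le_of_finrank_eq
    · rintro _ ⟨s, hs, rfl⟩
      exact h s hs
    · exact LinearEquiv.finrank_map_eq y S
  have h2 : y s ∈ S.map (y : V →ₗ[F] V) := by rw [h1]; exact hs
  obtain ⟨s', hs', h3⟩ := h2
  rw [← y.injective h3]
  exact hs'

theorem Ad.mono {X Z : Submodule F V} {P : V →ₗ[F] X} {D : Subgroup (V ≃ₗ[F] V)} (h : Ad B D X Z P) (hC : C ≤ D) : Ad B C X Z P where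
  alt := h.alt
  leC := hC.trans h.leC
  px := h.px
  pz := h.pz
  cz := fun c hc => h.cz c (hC hc)
  cx := fun c hc => h.cx c (hC hc)
  xz := h.xz
  zz := h.zz

/-- the frame of an invariant point or nondegenerate plane -/
theorem exists_ad [FiniteDimensional F V] (alt : ∀ x, B x x = 0) (nd : ∀ x, (∀ y, B x y = 0) → x = 0)
    (hS : finrank F S = 1 ∨ (finrank F S = 2 ∧ ∀ s ∈ S, s ≠ 0 → ∃ t ∈ S, B s t ≠ 0)) :
    ∃ (e f₀ : V) (hp : HP B e f₀) (Z : Submodule F V), Ad B (St B S) (HP.X B e f₀) Z hp.P ∧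
      (∀ c ∈ St B S, (∀ x : HP.X B e f₀, c x - x ∈ Z) → ∃ T : Submodule F V, finrank F T ≤ 2 ∧ ∀ v, c v - v ∈ T) ∧
      (∀ c ∈ St B S, ∀ y ∈ St B S, (∀ x : HP.X B e f₀, hp.P (c x) = hp.P (y x)) →
        ∀ u, (∀ s ∈ S, B u s = 0) → c u - y u ∈ S) := by
  rcases hS with h1 | ⟨h1, h2⟩
  · -- points
    obtain ⟨⟨e, he⟩, he0, hsp⟩ := finrank_eq_one_iff'.1 h1
    have he0' : e ≠ 0 := fun h => he0 (Subtype.ext h)
    have hsp' : ∀ s ∈ S, ∃ a : F, s = a • e := fun s hs => by
      obtain ⟨a, ha⟩ := hsp ⟨s, hs⟩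
      exact ⟨a, (congrArg Subtype.val ha).symm⟩
    obtain ⟨f₁, hf₁⟩ : ∃ f₁, B e f₁ ≠ 0 := by
      by_contra hcon
      push Not at hcon
      exact he0' (nd e hcon)
    obtain ⟨f₀, hef⟩ : ∃ f₀, B e f₀ = 1 := ⟨(B e f₁)⁻¹ • f₁, by rw [map_smul, smul_eq_mul, inv_mul_cancel₀ hf₁]⟩
    have h : Pt B (St B S) e f₀ :=
      { hp := ⟨alt, nd, hef⟩
        le := fun c hc => hc.1
        st := fun c hc => hsp' _ ((hc.2 e).2 he)
        full := by
          intro y hy hye
          refine ⟨y, mem_St_of hy fun s hs => ?_, fun u _ => ⟨0, by rw [zero_smul, add_zero]⟩⟩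
          obtain ⟨a, rfl⟩ := hsp' s hs
          rw [map_smul, hye]
          exact hs }
    have hSe : Submodule.span F {e} ≤ S := by
      rw [Submodule.span_singleton_le_iff_mem]
      exact he
    refine ⟨e, f₀, h.hp, _, h.ad, ?_, ?_⟩
    · intro c hc hx
      refine ⟨Submodule.span F (Set.range ![e, c f₀ - f₀]), ?_, fun v => ?_⟩
      · have h3 := finrank_range_le_card (R := F) ![e, c f₀ - f₀]
        rwa [Fintype.card_fin] at h3
      · have m1 : e ∈ Submodule.span F (Set.range ![e, c f₀ - f₀]) := Submodule.subset_span ⟨0, rfl⟩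
        have m2 : c f₀ - f₀ ∈ Submodule.span F (Set.range ![e, c f₀ - f₀]) := Submodule.subset_span ⟨1, rfl⟩
        obtain ⟨a, ha⟩ := Submodule.mem_span_singleton.1 (hx (h.hp.P v))
        obtain ⟨l, hl⟩ := h.st c hc
        have h3 := h.hp.sub_P v
        rw [sub_eq_iff_eq_add] at h3
        have h4 : c v - v = a • e + (B v f₀ * (l - 1)) • e - B v e • (c f₀ - f₀) := by
          have h5 : c (h.hp.P v : V) = (h.hp.P v : V) + a • e := by rw [ha]; abel
          have h6 : c v = B v f₀ • l • e - B v e • c f₀ + ((h.hp.P v : V) + a • e) := by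
            conv_lhs => rw [h3]
            rw [map_add, map_sub, map_smul, map_smul, hl, h5]
          rw [h6]
          linear_combination (norm := module) -h3
        rw [h4]
        exact Submodule.sub_mem _ (Submodule.add_mem _ (Submodule.smul_mem _ _ m1) (Submodule.smul_mem _ _ m1))
          (Submodule.smul_mem _ _ m2)
    · intro c hc y hy hxy u hu
      have hue : B u e = 0 := hu e he
      have h3 := h.hp.sub_P u
      rw [hue, zero_smul, sub_zero, sub_eq_iff_eq_add] at h3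
      obtain ⟨z, hz, e1⟩ := h.ad.decomp hc (h.hp.P u)
      obtain ⟨z', hz', e2⟩ := h.ad.decomp hy (h.hp.P u)
      have h4 : c u - y u = (B u f₀ • c e - B u f₀ • y e) + (z - z') := by
        conv_lhs => rw [h3]
        rw [map_add, map_add, map_smul, map_smul, e1, e2, hxy]
        abel
      rw [h4]
      exact S.add_mem (S.sub_mem (S.smul_mem _ ((hc.2 e).2 he)) (S.smul_mem _ ((hy.2 e).2 he)))
        (S.sub_mem (hSe hz) (hSe hz'))
  · -- planes
    obtain ⟨⟨e, he⟩, he0⟩ : ∃ s : S, s ≠ 0 := by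
      by_contra hcon
      push Not at hcon
      have h3 : finrank F S = 0 := finrank_zero_iff_forall_zero.2 hcon
      omega
    have he0' : e ≠ 0 := fun h => he0 (Subtype.ext h)
    obtain ⟨f₁, hf₁S, hf₁⟩ := h2 e he he0'
    obtain ⟨f₀, hef, hfS⟩ : ∃ f₀, B e f₀ = 1 ∧ f₀ ∈ S :=
      ⟨(B e f₁)⁻¹ • f₁, by rw [map_smul, smul_eq_mul, inv_mul_cancel₀ hf₁], S.smul_mem _ hf₁S⟩
    have hH : HP B e f₀ := ⟨alt, nd, hef⟩
    have hli : LinearIndependent F ![e, f₀] := by
      rw [LinearIndependent.pair_iff]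
      intro a b hab
      have h3 := congrArg (fun z => B z f₀) hab
      have h4 := congrArg (fun z => B z e) hab
      simp only [map_add, map_smul, LinearMap.add_apply, LinearMap.smul_apply, map_zero, LinearMap.zero_apply, alt, hef,
        hH.fe, smul_eq_mul, mul_one, mul_zero, add_zero, zero_add] at h3 h4
      exact ⟨h3, by linear_combination -h4⟩
    have hsp : Submodule.span F (Set.range ![e, f₀]) = S := by
      apply Submodule.eq_of_le_of_finrank_eq
      · rw [Submodule.span_le]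
        rintro _ ⟨i, rfl⟩
        fin_cases i
        · exact he
        · exact hfS
      · rw [finrank_span_eq_card hli, Fintype.card_fin, h1]
    have hsp' : ∀ s ∈ S, ∃ a b : F, s = a • e + b • f₀ := by
      intro s hs
      rw [← hsp, Matrix.range_cons, Matrix.range_cons, Matrix.range_empty, Set.union_empty, Set.singleton_union,
        Submodule.mem_span_pair] at hs
      obtain ⟨a, b, hab⟩ := hs
      exact ⟨a, b, hab.symm⟩
    have h : Pl B (St B S) S e f₀ :=
      { hp := hH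
        le := fun c hc => hc.1
        st := fun c hc s hs => (hc.2 s).2 hs
        he := he
        hf := hfS
        sp := hsp'
        full := by
          intro y hy hys
          exact ⟨y, mem_St_of hy hys, fun u _ _ => by rw [sub_self]; exact S.zero_mem⟩ }
    refine ⟨e, f₀, h.hp, _, h.ad, ?_, ?_⟩
    · intro c hc hx
      refine ⟨S, h1.le, fun v => ?_⟩
      have h3 : v = (h.hp.P v : V) + (h.Q v : V) := by
        rw [h.Q_apply, ← h.hp.sub_P]
        abel
      have h4 : c (h.hp.P v : V) - (h.hp.P v : V) = 0 := (Submodule.mem_bot F).1 (hx (h.hp.P v))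
      have h5 : c v - v = (c (h.hp.P v : V) - (h.hp.P v : V)) + (c (h.Q v : V) - (h.Q v : V)) := by
        conv_lhs => rw [h3]
        rw [map_add]
        abel
      rw [h5, h4, zero_add]
      exact S.sub_mem ((hc.2 _).2 (h.Q v).2) (h.Q v).2
    · intro c hc y hy hxy u hu
      have huX : u ∈ HP.X B e f₀ := ⟨hu e he, hu f₀ hfS⟩
      have h3 := (Submodule.mem_bot F).1 (h.ad.cx c hc ⟨u, huX⟩)
      have h4 := (Submodule.mem_bot F).1 (h.ad.cx y hy ⟨u, huX⟩)
      have h5 := hxy ⟨u, huX⟩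
      rw [sub_eq_zero] at h3 h4
      change c u = _ at h3
      change y u = _ at h4
      have h6 : c u = y u := by
        rw [h3, h4]
        exact congrArg Subtype.val h5
      rw [h6, sub_self]
      exact S.zero_mem

section main

variable [Fintype F] [FiniteDimensional F V] {p f m k t : ℕ} {A : Subgroup (V ≃ₗ[F] V)}

/-- elements of order `t` moving little are trivial -/
theorem eq_one_of (hk : 3 ≤ k) (ht : PP (Nat.card F) k t) {c : V ≃ₗ[F] V} (hc : c ^ t = 1) {T : Submodule F V}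
    (hT : finrank F T ≤ 2) (h : ∀ v, c v - v ∈ T) : c = 1 := by
  have h1 := dvd_cm ht (by omega) hc
  have h2 : cm (c : Module.End F V) ≤ T := by
    rintro _ ⟨v, rfl⟩
    exact h v
  have h3 := Submodule.finrank_mono h2
  have h4 : finrank F (cm (c : Module.End F V)) = 0 := by
    by_contra h5
    have := Nat.le_of_dvd (Nat.pos_of_ne_zero h5) h1
    omega
  have h5 := Submodule.finrank_eq_zero.1 h4
  apply LinearEquiv.ext
  intro v
  have h6 : c v - v ∈ cm (c : Module.End F V) := ⟨v, rfl⟩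
  rw [h5, Submodule.mem_bot, sub_eq_zero] at h6
  exact h6

variable {X Z : Submodule F V} {Pr : V →ₗ[F] X} (ad : Ad B C X Z Pr)
  (hker : ∀ c ∈ C, (∀ x : X, c x - x ∈ Z) → ∃ T : Submodule F V, finrank F T ≤ 2 ∧ ∀ v, c v - v ∈ T)

include ad hker

theorem ker_pow (hk : 3 ≤ k) (ht : PP (Nat.card F) k t) {c : C} (hc : ad.hom c = 1) (hct : c ^ t = 1) : c = 1 := by
  obtain ⟨T, hT, h1⟩ := hker c c.2 ((ad.mem_ker c).1 hc)
  exact Subtype.ext (eq_one_of hk ht (congrArg Subtype.val hct) hT h1)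

theorem fac_eq (hk : 3 ≤ k) (ht : PP (Nat.card F) k t) :
    (Nat.card C).factorization t = (Nat.card ad.hom.range).factorization t := by
  have hfE := finite_end (F := F) (V := V)
  have hfX : Finite (X ≃ₗ[F] X) := finite_end (F := F) (V := X)
  have hfp : Fact t.Prime := ⟨ht.prime⟩
  have h1 : ¬ t ∣ Nat.card ad.hom.ker := by
    intro h
    obtain ⟨c, hc⟩ := exists_prime_orderOf_dvd_card' t h
    have h2 := ker_pow ad hker hk ht (c := c) (MonoidHom.mem_ker.1 c.2) (by
      have h3 := pow_orderOf_eq_one c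
      rw [hc] at h3
      exact congrArg Subtype.val h3)
    have h3 : c = 1 := Subtype.ext h2
    rw [h3, orderOf_one] at hc
    exact ht.prime.one_lt.ne hc
  rw [ad.card_eq, Nat.factorization_mul Nat.card_pos.ne' Nat.card_pos.ne', Finsupp.add_apply,
    Nat.factorization_eq_zero_of_not_dvd h1, zero_add]

theorem elt_of (hk : 3 ≤ k) (ht : PP (Nat.card F) k t) {j : ℕ} {c : V ≃ₗ[F] V} (hc : c ∈ C) (ho : orderOf c = t ^ j) :
    ∃ x ∈ ad.hom.range, orderOf x = t ^ j := by
  have hfp : Fact t.Prime := ⟨ht.prime⟩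
  refine ⟨ad.hom ⟨c, hc⟩, ⟨_, rfl⟩, ?_⟩
  have ho' : orderOf (⟨c, hc⟩ : C) = t ^ j := by rw [Subgroup.orderOf_mk, ho]
  rcases Nat.eq_zero_or_pos j with rfl | hj
  · rw [pow_zero, orderOf_eq_one_iff] at ho'
    rw [ho', map_one, orderOf_one, pow_zero]
  · obtain ⟨i, rfl⟩ : ∃ i, j = i + 1 := ⟨j - 1, by omega⟩
    refine orderOf_eq_prime_pow ?_ ?_
    · intro h1
      rw [← map_pow] at h1
      have h2 := ker_pow ad hker hk ht h1 (by rw [← pow_mul, ← pow_succ, ← ho', pow_orderOf_eq_one])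
      have h3 := orderOf_dvd_of_pow_eq_one h2
      rw [ho'] at h3
      have h4 := Nat.le_of_dvd (pow_pos ht.prime.pos _) h3
      have h5 : t ^ i < t ^ (i + 1) := Nat.pow_lt_pow_right ht.prime.one_lt (by omega)
      omega
    · rw [← map_pow, ← ho', pow_orderOf_eq_one, map_one]

end main

/-- **SECT**, from an invariant point or nondegenerate plane -/
theorem sect_of [Fintype F] [FiniteDimensional F V] {m : ℕ} (alt : ∀ x, B x x = 0)
    (nd : ∀ x, (∀ y, B x y = 0) → x = 0) (hd : finrank F V = 2 * (m + 1)) (hC : C ≤ Isos B)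
    (inv : ∀ c ∈ C, ∀ s ∈ S, c s ∈ S)
    (hS : finrank F S = 1 ∨ (finrank F S = 2 ∧ ∀ s ∈ S, s ≠ 0 → ∃ t ∈ S, B s t ≠ 0)) :
    ∃ (U : Submodule F V) (Hb : Subgroup (U ≃ₗ[F] U)), finrank F U = 2 * m ∧
      (∀ x ∈ U, (∀ y ∈ U, B x y = 0) → x = 0) ∧ Hb ≤ Isos (B.restrict U) ∧
      (∀ t k, 3 ≤ k → PP (Nat.card F) k t → (Nat.card C).factorization t = (Nat.card Hb).factorization t) ∧
      (∀ t k j, 3 ≤ k → PP (Nat.card F) k t → ∀ c ∈ C, orderOf c = t ^ j → ∃ x ∈ Hb, orderOf x = t ^ j) ∧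
      (Isos (B.restrict U) ≤ Hb → Full B C S) := by
  obtain ⟨e, f₀, hp, Z, ad, h1, h2⟩ := exists_ad alt nd hS
  have hCS : C ≤ St B S := le_St hC inv
  have adC := ad.mono hCS
  have hker : ∀ c ∈ C, (∀ x : HP.X B e f₀, c x - x ∈ Z) → ∃ T : Submodule F V, finrank F T ≤ 2 ∧ ∀ v, c v - v ∈ T :=
    fun c hc => h1 c (hCS hc)
  refine ⟨HP.X B e f₀, adC.hom.range, hp.finrank_X hd, ?_, adC.range_le, fun t k hk ht => fac_eq adC hker hk ht,
    fun t k j hk ht c hc ho => elt_of adC hker hk ht hc ho, fun hle => ⟨inv, hS, ?_⟩⟩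
  · intro x hx hxy
    exact congrArg Subtype.val (hp.nd_X ⟨x, hx⟩ fun y => hxy y y.2)
  · intro y hy hyS
    have hyS' : y ∈ St B S := mem_St_of hy hyS
    obtain ⟨⟨c, hc⟩, h3⟩ := hle (ad.isom ⟨y, hyS'⟩)
    refine ⟨c, hc, h2 c (hCS hc) y hyS' fun x => ?_⟩
    have h4 := congrArg (fun g : HP.X B e f₀ ≃ₗ[F] HP.X B e f₀ => g x) h3
    exact h4

section final

variable {p f m : ℕ} {A : Subgroup (V ≃ₗ[F] V)}

/-- **SECT** -/
theorem exists_sect [Fintype F] [FiniteDimensional F V] (P : Pair B p f m A C) (hm : 5 ≤ m) {t1 : ℕ}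
    (h1 : PP p (f * (2 * (m - 1))) t1) (h1C : t1 ∣ Nat.card C) (hred : RedG C) :
    ∃ (U : Submodule F V) (Hb : Subgroup (U ≃ₗ[F] U)), finrank F U = 2 * (m - 1) ∧
      (∀ x ∈ U, (∀ y ∈ U, B x y = 0) → x = 0) ∧ Hb ≤ Isos (B.restrict U) ∧
      (∀ t k, 3 ≤ k → PP (Nat.card F) k t → (Nat.card C).factorization t = (Nat.card Hb).factorization t) ∧
      (∀ t k j, 3 ≤ k → PP (Nat.card F) k t → ∀ c ∈ C, orderOf c = t ^ j → ∃ x ∈ Hb, orderOf x = t ^ j) ∧
      (Isos (B.restrict U) ≤ Hb → ∃ S, Full B C S) := by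
  have hpp : PP (Nat.card F) (2 * (m - 1)) t1 := P.pp (by omega) h1
  obtain ⟨y, hyC, hy, hy1⟩ := exists_elt h1.prime h1C
  obtain ⟨hfx, hcm, hor, -⟩ := blk hpp (by omega) (by rw [P.dim]; omega) hy hy1
  have hfx2 : finrank F (fx (y : Module.End F V)) = 2 := by
    rw [P.dim] at hfx
    omega
  have hyI := P.leC hyC
  have hndc := nd_cm P.alt P.nondeg hpp (by omega) hyI hy
  have hndf := nd_fx P.alt P.nondeg hpp (by omega) hyI hy
  obtain ⟨S, hS0, hSf, hSi⟩ : ∃ S : Submodule F V, S ≠ ⊥ ∧ S ≤ fx (y : Module.End F V) ∧ ∀ c ∈ C, ∀ s ∈ S, c s ∈ S := by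
    obtain ⟨W, hW0, hW1, hW⟩ := hred
    rcases hor W (fun w hw => hW y hyC w hw) with h2 | h2
    · exact ⟨W, hW0, h2, hW⟩
    · have hBn := nondeg_of P.alt P.nondeg
      refine ⟨B.orthogonal W, ?_, ?_, ?_⟩
      · intro h3
        have h4 := LinearMap.BilinForm.finrank_orthogonal hBn W
        rw [h3, finrank_bot] at h4
        have h5 := Submodule.finrank_lt hW1
        omega
      · intro v hv
        have hv' : ∀ w ∈ W, B w v = 0 := fun w hw => hv w hw
        have h3 : y v - v ∈ cm (y : Module.End F V) := ⟨v, rfl⟩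
        have h4 : ∀ c ∈ cm (y : Module.End F V), B c (y v - v) = 0 := by
          intro c hc
          rw [map_sub, hv' c (h2 hc), sub_zero]
          have h5 := hyI (y⁻¹ c) v
          have e1 : y (y⁻¹ c) = c := y.apply_symm_apply c
          rw [e1] at h5
          rw [h5]
          refine hv' _ (h2 ?_)
          obtain ⟨u, hu⟩ := hc
          refine ⟨y⁻¹ u, ?_⟩
          have hu' : y u - u = c := hu
          change y (y⁻¹ u) - y⁻¹ u = y⁻¹ c
          have e2 : y (y⁻¹ u) = u := y.apply_symm_apply u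
          have e3 : y⁻¹ (y u) = u := y.symm_apply_apply u
          rw [e2, ← hu', map_sub, e3]
        have h5 : y v - v = 0 := by
          by_contra h6
          obtain ⟨c, hc, h7⟩ := hndc _ h3 h6
          apply h7
          change B (y v - v) c = 0
          rw [swap P.alt, h4 c hc, neg_zero]
        exact H951.mem_fx.2 (sub_eq_zero.1 h5)
      · intro c hc s hs w hw
        have h3 := P.leC hc (c⁻¹ w) s
        have e1 : c (c⁻¹ w) = w := c.apply_symm_apply w
        rw [e1] at h3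
        change B w (c s) = 0
        rw [h3]
        exact hs _ (hW _ (C.inv_mem hc) w hw)
  have hle := Submodule.finrank_mono hSf
  have hpos : finrank F S ≠ 0 := fun h => hS0 (Submodule.finrank_eq_zero.1 h)
  have hdim : finrank F S = 1 ∨ (finrank F S = 2 ∧ ∀ s ∈ S, s ≠ 0 → ∃ t ∈ S, B s t ≠ 0) := by
    by_cases h2 : finrank F S = 1
    · exact Or.inl h2
    · right
      have h3 : finrank F S = 2 := by omega
      have h4 : S = fx (y : Module.End F V) := Submodule.eq_of_le_of_finrank_eq hSf (by rw [h3, hfx2])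
      refine ⟨h3, ?_⟩
      rw [h4]
      exact fun s hs hs0 => hndf s hs hs0
  obtain ⟨U, Hb, a1, a2, a3, a4, a5, a6⟩ := sect_of (m := m - 1) P.alt P.nondeg (by rw [P.dim]; omega) P.leC hSi hdim
  exact ⟨U, Hb, a1, a2, a3, a4, a5, fun h => ⟨S, a6 h⟩⟩

end final

end Cfsg.Agent.H951.Rs
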