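import Cfsg.Agent.H951.Rs.Uni

/-!
# `Full.dich` (S3691, N2, helper951)

If `C` induces all of `Sp(S^⊥ / S)`, then `v_p |A| ≥ (2m-2) f - v_p(f)` or `v_p |A| ≤ f`, and `v_p |A| ≤ (2m-1) f`;
`|A|` divides `2 q^(2m-1) (q^(2m) - 1)`.
-/

set_option autoImplicit false
set_option linter.unusedSectionVars false

namespace Cfsg.Agent.H951.Rs

open Module Cfsg.Agent.H925.Rs

universe v w

variable {F : Type v} [Field F] {V : Type w} [AddCommGroup V] [Module F V] {B : LinearMap.BilinForm F V}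
  {C : Subgroup (V ≃ₗ[F] V)} {S : Submodule F V} {e f₀ : V}

theorem fac_le_of_dvd {a b p : ℕ} (ha : a ≠ 0) (hb : b ≠ 0) (h : a ∣ b) : a.factorization p ≤ b.factorization p :=
  (Nat.factorization_le_iff_dvd ha hb).2 h p

/-! ### points -/

theorem Pt.ad (h : Pt B C e f₀) : Ad B C (HP.X B e f₀) (Submodule.span F {e}) h.hp.P where
  alt := h.hp.alt
  leC := h.le
  px := h.hp.px
  pz := by
    intro z hz
    obtain ⟨a, rfl⟩ := Submodule.mem_span_singleton.1 hz
    rw [map_smul, h.hp.P_e, smul_zero]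
  cz := by
    intro c hc z hz
    obtain ⟨a, rfl⟩ := Submodule.mem_span_singleton.1 hz
    obtain ⟨b, hb⟩ := h.st c hc
    rw [map_smul, hb]
    exact Submodule.smul_mem _ _ (Submodule.smul_mem _ _ (Submodule.mem_span_singleton_self e))
  cx := by
    intro c hc x
    obtain ⟨b, hb⟩ := h.st c⁻¹ (C.inv_mem hc)
    have h1 : B (c x) e = 0 := by
      have h2 := h.le hc x (c⁻¹ e)
      have e1 : c (c⁻¹ e) = e := c.apply_symm_apply e
      rw [e1, hb, map_smul, x.2.1, smul_zero] at h2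
      exact h2
    rw [h.hp.sub_P, h1, zero_smul, sub_zero]
    exact Submodule.smul_mem _ _ (Submodule.mem_span_singleton_self e)
  xz := by
    intro x z hz
    obtain ⟨a, rfl⟩ := Submodule.mem_span_singleton.1 hz
    rw [map_smul, x.2.1, smul_zero]
  zz := by
    intro z hz z' hz'
    obtain ⟨a, rfl⟩ := Submodule.mem_span_singleton.1 hz
    obtain ⟨b, rfl⟩ := Submodule.mem_span_singleton.1 hz'
    rw [map_smul, map_smul, LinearMap.smul_apply, h.hp.alt, smul_zero, smul_zero]

theorem Pt.range (h : Pt B C e f₀) : h.ad.hom.range = Isos (B.restrict (HP.X B e f₀)) := by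
  refine h.ad.range_eq fun y hy => ?_
  obtain ⟨g, hg, h1, h2, -⟩ := h.hp.exists_ext' hy
  obtain ⟨c, hc, h3⟩ := h.full g hg h2
  refine ⟨c, hc, fun x => ?_⟩
  obtain ⟨b, hb⟩ := h3 x x.2.1
  rw [hb, h1, add_sub_cancel_left]
  exact Submodule.smul_mem _ _ (Submodule.mem_span_singleton_self e)

/-- the `p`-part of the kernel -/
theorem Pt.card_Nn [Finite F] [FiniteDimensional F V] (h : Pt B C e f₀) {p : ℕ} [hp : Fact p.Prime] [CharP F p] :
    Nat.card (Nn C B e) = p ^ (Nat.card h.ad.hom.ker).factorization p := by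
  have hfV : Finite V := Module.finite_of_finite F
  have hfE : Finite (V ≃ₗ[F] V) := DFunLike.finite _
  set K := h.ad.hom.ker with hK
  have hNC : Nn C B e ≤ C := fun c hc => hc.1
  have hNK : (Nn C B e).subgroupOf C ≤ K := by
    intro c hc
    rw [Subgroup.mem_subgroupOf] at hc
    rw [hK, MonoidHom.mem_ker, h.ad.mem_ker]
    intro x
    obtain ⟨b, hb⟩ := hc.2.2 x x.2.1
    rw [hb, add_sub_cancel_left]
    exact Submodule.smul_mem _ _ (Submodule.mem_span_singleton_self e)
  have hcard : Nat.card (((Nn C B e).subgroupOf C).subgroupOf K) = Nat.card (Nn C B e) := by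
    rw [Nat.card_congr (Subgroup.subgroupOfEquivOfLe hNK).toEquiv, Nat.card_congr (Subgroup.subgroupOfEquivOfLe hNC).toEquiv]
  have hpg : IsPGroup p (((Nn C B e).subgroupOf C).subgroupOf K) :=
    (h.isPGroup (p := p)).of_equiv ((Subgroup.subgroupOfEquivOfLe hNK).trans (Subgroup.subgroupOfEquivOfLe hNC)).symm
  obtain ⟨P₁⟩ : Nonempty (Sylow p K) := inferInstance
  have hle : (P₁ : Subgroup K) ≤ ((Nn C B e).subgroupOf C).subgroupOf K := by
    intro g hg
    obtain ⟨j, hj⟩ := P₁.2 ⟨g, hg⟩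
    rw [Subgroup.mem_subgroupOf, Subgroup.mem_subgroupOf]
    set c : V ≃ₗ[F] V := ((g : C) : V ≃ₗ[F] V) with hc
    have hcj : c ^ p ^ j = 1 := congrArg (fun z => (((z : K) : C) : V ≃ₗ[F] V)) (congrArg Subtype.val hj)
    obtain ⟨l, hl⟩ := h.st c g.1.2
    have hpow : ∀ j : ℕ, (c ^ j) e = l ^ j • e := by
      intro j
      induction j with
      | zero => rw [pow_zero, pow_zero, one_smul]; rfl
      | succ j ih =>
        rw [pow_succ']
        change c ((c ^ j) e) = _
        rw [ih, map_smul, hl, smul_smul, pow_succ]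
    have hl1 : l = 1 := by
      have h1 := hpow (p ^ j)
      rw [hcj] at h1
      have h2 : (1 : F) • e = l ^ p ^ j • e := by rw [one_smul]; exact h1
      have h3 := smul_left_injective F h.hp.e_ne h2
      have h4 : (l - 1) ^ p ^ j = 0 := by
        rw [sub_pow_char_pow, one_pow, ← h3, sub_self]
      exact sub_eq_zero.1 (pow_eq_zero_iff (pow_ne_zero _ hp.out.ne_zero) |>.1 h4)
    rw [hl1, one_smul] at hl
    refine ⟨g.1.2, hl, fun u hu => ?_⟩
    have h1 := h.hp.sub_P u
    rw [hu, zero_smul, sub_zero, sub_eq_iff_eq_add] at h1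
    have h2 : c (h.hp.P u : V) - (h.hp.P u : V) ∈ Submodule.span F {e} :=
      (h.ad.mem_ker (g : C)).1 (MonoidHom.mem_ker.1 g.2) (h.hp.P u)
    obtain ⟨b, hb⟩ := Submodule.mem_span_singleton.1 h2
    refine ⟨b, ?_⟩
    rw [eq_sub_iff_add_eq] at hb
    conv_lhs => rw [h1, map_add, map_smul, hl, ← hb]
    conv_rhs => rw [h1]
    module
  have h1 := P₁.is_maximal' hpg hle
  rw [← hcard, h1]
  exact P₁.card_eq_multiplicity

/-- **points** -/
theorem Pt.main [Finite F] [FiniteDimensional F V] (h : Pt B C e f₀) {p f m : ℕ} (hp : p.Prime) (hf : 1 ≤ f)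
    (hF : Nat.card F = p ^ f) (hd : finrank F V = 2 * (m + 1)) :
    (Nat.card h.ad.hom.ker).factorization p ≤ f ∨ 2 * m * f ≤ (Nat.card h.ad.hom.ker).factorization p := by
  have hfp : Fact p.Prime := ⟨hp⟩
  have : Fintype F := Fintype.ofFinite F
  have hch : CharP F p := by
    have hpF : (p : F) = 0 := by
      have h1 := Nat.cast_card_eq_zero F
      rw [← Nat.card_eq_fintype_card, hF] at h1
      push_cast at h1
      exact pow_eq_zero_iff (by omega : f ≠ 0) |>.1 h1
    exact (CharP.charP_iff_prime_eq_zero hp).2 hpF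
  have h1 := h.card_Nn (p := p)
  rcases h.card_le_or hp hf hF with h2 | h2
  · left
    rw [h1, hF] at h2
    exact (Nat.pow_le_pow_iff_right hp.one_lt).1 h2
  · right
    rw [h1, Module.natCard_eq_pow_finrank (K := F), h.hp.finrank_X hd, hF, ← pow_mul] at h2
    have h3 := (Nat.pow_le_pow_iff_right hp.one_lt).1 h2
    rw [mul_comm]
    exact h3

/-! ### planes -/

/-- `C` stabilises the nondegenerate plane `S = ⟨e, f₀⟩` -/
structure Pl (B : LinearMap.BilinForm F V) (C : Subgroup (V ≃ₗ[F] V)) (S : Submodule F V) (e f₀ : V) : Prop where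
  hp : HP B e f₀
  le : C ≤ Isos B
  st : ∀ c ∈ C, ∀ s ∈ S, c s ∈ S
  he : e ∈ S
  hf : f₀ ∈ S
  sp : ∀ s ∈ S, ∃ a b : F, s = a • e + b • f₀
  full : ∀ y ∈ Isos B, (∀ s ∈ S, y s ∈ S) → ∃ c ∈ C, ∀ u, B u e = 0 → B u f₀ = 0 → c u - y u ∈ S

namespace Pl

variable (h : Pl B C S e f₀)

include h

theorem perp {c : V ≃ₗ[F] V} (hc : c ∈ C) {x : V} (hx : x ∈ HP.X B e f₀) : c x ∈ HP.X B e f₀ := by
  have key : ∀ s ∈ S, B (c x) s = 0 := by
    intro s hs
    obtain ⟨a, b, hab⟩ := h.sp _ (h.st c⁻¹ (C.inv_mem hc) s hs)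
    have h2 := h.le hc x (c⁻¹ s)
    have e1 : c (c⁻¹ s) = s := c.apply_symm_apply s
    rw [e1, hab, map_add, map_smul, map_smul, hx.1, hx.2, smul_zero, smul_zero, add_zero] at h2
    exact h2
  exact ⟨key e h.he, key f₀ h.hf⟩

theorem inf_eq {x : V} (hx : x ∈ HP.X B e f₀) (hs : x ∈ S) : x = 0 := by
  obtain ⟨a, b, hab⟩ := h.sp x hs
  obtain ⟨h1, h2⟩ := hx
  rw [hab, map_add, map_smul, map_smul, LinearMap.add_apply, LinearMap.smul_apply, LinearMap.smul_apply, h.hp.alt,
    h.hp.fe, smul_zero, zero_add, smul_eq_mul] at h1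
  rw [hab, map_add, map_smul, map_smul, LinearMap.add_apply, LinearMap.smul_apply, LinearMap.smul_apply, h.hp.alt,
    h.hp.ef, smul_zero, add_zero, smul_eq_mul, mul_one] at h2
  have hb : b = 0 := by linear_combination -h1
  rw [hab, h2, hb, zero_smul, zero_smul, add_zero]

theorem ad : Ad B C (HP.X B e f₀) ⊥ h.hp.P where
  alt := h.hp.alt
  leC := h.le
  px := h.hp.px
  pz := by
    intro z hz
    rw [(Submodule.mem_bot F).1 hz, map_zero]
  cz := by
    intro c _ z hz
    rw [(Submodule.mem_bot F).1 hz, map_zero]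
    exact Submodule.zero_mem _
  cx := by
    intro c hc x
    obtain ⟨h1, h2⟩ := h.perp hc x.2
    rw [h.hp.sub_P, h1, h2, zero_smul, zero_smul, sub_zero]
    exact Submodule.zero_mem _
  xz := by
    intro x z hz
    rw [(Submodule.mem_bot F).1 hz, map_zero]
  zz := by
    intro z hz z' hz'
    rw [(Submodule.mem_bot F).1 hz', map_zero]

theorem range : h.ad.hom.range = Isos (B.restrict (HP.X B e f₀)) := by
  refine h.ad.range_eq fun y hy => ?_
  obtain ⟨g, hg, h1, h2, h3⟩ := h.hp.exists_ext' hy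
  obtain ⟨c, hc, h4⟩ := h.full g hg (fun s hs => by
    obtain ⟨a, b, hab⟩ := h.sp s hs
    rw [hab, map_add, map_smul, map_smul, h2, h3, ← hab]
    exact hs)
  refine ⟨c, hc, fun x => ?_⟩
  have h5 := h4 x x.2.1 x.2.2
  rw [h1] at h5
  rw [Submodule.mem_bot]
  exact h.inf_eq (Submodule.sub_mem _ (h.perp hc x.2) (y x).2) h5

/-- the projection to `S` -/
noncomputable def Q : V →ₗ[F] S where
  toFun v := ⟨B v f₀ • e - B v e • f₀, Submodule.sub_mem _ (S.smul_mem _ h.he) (S.smul_mem _ h.hf)⟩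
  map_add' u v := Subtype.ext (by
    simp only [map_add, LinearMap.add_apply, Submodule.coe_add]
    module)
  map_smul' c v := Subtype.ext (by
    simp only [map_smul, LinearMap.smul_apply, smul_eq_mul, RingHom.id_apply, Submodule.coe_smul]
    module)

theorem Q_apply (v : V) : (h.Q v : V) = B v f₀ • e - B v e • f₀ := rfl

theorem Q_of {s : V} (hs : s ∈ S) : (h.Q s : V) = s := by
  obtain ⟨a, b, hab⟩ := h.sp s hs
  rw [h.Q_apply]
  conv_rhs => rw [hab]
  rw [hab]
  simp only [map_add, map_smul, LinearMap.add_apply, LinearMap.smul_apply, h.hp.alt, h.hp.ef, h.hp.fe, smul_eq_mul]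
  module

theorem ad' : Ad B C S ⊥ h.Q where
  alt := h.hp.alt
  leC := h.le
  px := fun x => Subtype.ext (h.Q_of x.2)
  pz := by
    intro z hz
    rw [(Submodule.mem_bot F).1 hz, map_zero]
  cz := by
    intro c _ z hz
    rw [(Submodule.mem_bot F).1 hz, map_zero]
    exact Submodule.zero_mem _
  cx := by
    intro c hc x
    rw [h.Q_of (h.st c hc x x.2), sub_self]
    exact Submodule.zero_mem _
  xz := by
    intro x z hz
    rw [(Submodule.mem_bot F).1 hz, map_zero]
  zz := by
    intro z hz z' hz'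
    rw [(Submodule.mem_bot F).1 hz', map_zero]

theorem ker_dvd : Nat.card h.ad.hom.ker ∣ Nat.card (Isos (B.restrict S)) := by
  let φ : h.ad.hom.ker →* Isos (B.restrict S) :=
    (h.ad'.hom.comp h.ad.hom.ker.subtype).codRestrict (Isos (B.restrict S)) (fun c => h.ad'.isom c)
  refine Subgroup.card_dvd_of_injective φ ?_
  rw [injective_iff_map_eq_one]
  intro c hc
  have h1 : h.ad'.hom (c : C) = 1 := congrArg Subtype.val hc
  have h2 := (h.ad'.mem_ker (c : C)).1 h1
  have h3 := (h.ad.mem_ker (c : C)).1 (MonoidHom.mem_ker.1 c.2)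
  apply Subtype.ext
  apply Subtype.ext
  apply LinearEquiv.ext
  intro v
  change ((c : C) : V ≃ₗ[F] V) v = v
  have h4 : ((c : C) : V ≃ₗ[F] V) (h.hp.P v : V) = (h.hp.P v : V) := sub_eq_zero.1 ((Submodule.mem_bot F).1 (h3 (h.hp.P v)))
  have h5 : ((c : C) : V ≃ₗ[F] V) (h.Q v : V) = (h.Q v : V) := sub_eq_zero.1 ((Submodule.mem_bot F).1 (h2 (h.Q v)))
  have h6 : v = (h.hp.P v : V) + (h.Q v : V) := by
    rw [h.Q_apply, ← h.hp.sub_P]
    abel
  rw [h6, map_add, h4, h5]

end Pl

/-! ### the two cases -/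

theorem exists_main [Finite F] [FiniteDimensional F V] {p f m : ℕ} (hp : p.Prime) (hf : 1 ≤ f) (hF : Nat.card F = p ^ f)
    (hd : finrank F V = 2 * (m + 1)) (alt : ∀ x, B x x = 0) (nd : ∀ x, (∀ y, B x y = 0) → x = 0) (hC : C ≤ Isos B)
    (hS : Full B C S) : ∃ X : Submodule F V, (∀ x : X, (∀ y : X, B.restrict X x y = 0) → x = 0) ∧ finrank F X = 2 * m ∧
      ∃ k, Nat.card C = k * Nat.card (Isos (B.restrict X)) ∧ (k.factorization p ≤ f ∨ 2 * m * f ≤ k.factorization p) := by
  rcases hS.dim with h1 | ⟨h1, h2⟩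
  · -- points
    obtain ⟨⟨e, he⟩, he0, hsp⟩ := finrank_eq_one_iff'.1 h1
    have he0' : e ≠ 0 := fun h => he0 (Subtype.ext h)
    have hsp' : ∀ s ∈ S, ∃ a : F, s = a • e := fun s hs => by
      obtain ⟨a, ha⟩ := hsp ⟨s, hs⟩
      exact ⟨a, (congrArg Subtype.val ha).symm⟩
    obtain ⟨f₁, hf₁⟩ : ∃ f₁, B e f₁ ≠ 0 := by
      by_contra hcon
      push Not at hcon
      exact he0' (nd e hcon)
    have h : Pt B C e ((B e f₁)⁻¹ • f₁) :=
      { hp := ⟨alt, nd, by rw [map_smul, smul_eq_mul, inv_mul_cancel₀ hf₁]⟩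
        le := hC
        st := fun c hc => hsp' _ (hS.inv c hc e he)
        full := by
          intro y hy hye
          obtain ⟨c, hc, hcu⟩ := hS.full y hy (fun s hs => by
            obtain ⟨a, rfl⟩ := hsp' s hs
            rw [map_smul, hye]
            exact hs)
          refine ⟨c, hc, fun u hu => ?_⟩
          obtain ⟨b, hb⟩ := hsp' _ (hcu u fun s hs => by
            obtain ⟨a, rfl⟩ := hsp' s hs
            rw [map_smul, hu, smul_zero])
          exact ⟨b, by rw [← hb]; abel⟩ }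
    refine ⟨_, h.hp.nd_X, h.hp.finrank_X hd, Nat.card h.ad.hom.ker, ?_, h.main hp hf hF hd⟩
    rw [h.ad.card_eq, h.range]
  · -- planes
    obtain ⟨⟨e, he⟩, he0⟩ : ∃ s : S, s ≠ 0 := by
      by_contra hcon
      push Not at hcon
      have h3 : finrank F S = 0 := finrank_zero_iff_forall_zero.2 hcon
      omega
    have he0' : e ≠ 0 := fun h => he0 (Subtype.ext h)
    obtain ⟨f₁, hf₁S, hf₁⟩ := h2 e he he0'
    have hef : B e ((B e f₁)⁻¹ • f₁) = 1 := by rw [map_smul, smul_eq_mul, inv_mul_cancel₀ hf₁]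
    set f₀ := (B e f₁)⁻¹ • f₁ with hf₀
    have hfS : f₀ ∈ S := S.smul_mem _ hf₁S
    have hH : HP B e f₀ := ⟨alt, nd, hef⟩
    have hli : LinearIndependent F ![e, f₀] := by
      rw [LinearIndependent.pair_iff]
      intro a b hab
      have h3 := congrArg (fun z => B z f₀) hab
      have h4 := congrArg (fun z => B z e) hab
      simp only [map_add, map_smul, LinearMap.add_apply, LinearMap.smul_apply, map_zero, LinearMap.zero_apply, alt, hef,
        hH.fe, smul_eq_mul, mul_one, mul_zero, add_zero, zero_add] at h3 h4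
      exact ⟨h3, by linear_combination -h4⟩
    have hsp : Submodule.span F (Set.range ![e, f₀]) = S := by
      apply Submodule.eq_of_le_of_finrank_eq
      · rw [Submodule.span_le]
        rintro _ ⟨i, rfl⟩
        fin_cases i
        · exact he
        · exact hfS
      · rw [finrank_span_eq_card hli, Fintype.card_fin, h1]
    have hsp' : ∀ s ∈ S, ∃ a b : F, s = a • e + b • f₀ := by
      intro s hs
      rw [← hsp, Matrix.range_cons, Matrix.range_cons, Matrix.range_empty, Set.union_empty, Set.singleton_union,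
        Submodule.mem_span_pair] at hs
      obtain ⟨a, b, hab⟩ := hs
      exact ⟨a, b, hab.symm⟩
    have h : Pl B C S e f₀ :=
      { hp := hH
        le := hC
        st := fun c hc s hs => hS.inv c hc s hs
        he := he
        hf := hfS
        sp := hsp'
        full := by
          intro y hy hys
          obtain ⟨c, hc, hcu⟩ := hS.full y hy hys
          refine ⟨c, hc, fun u hu hu' => hcu u fun s hs => ?_⟩
          obtain ⟨a, b, rfl⟩ := hsp' s hs
          rw [map_add, map_smul, map_smul, hu, hu', smul_zero, smul_zero, add_zero] }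
    refine ⟨_, h.hp.nd_X, h.hp.finrank_X hd, Nat.card h.ad.hom.ker, ?_, Or.inl ?_⟩
    · rw [h.ad.card_eq, h.range]
    · have hfV : Finite V := Module.finite_of_finite F
      have hfE : Finite (V ≃ₗ[F] V) := DFunLike.finite _
      have hfS' : Finite (S ≃ₗ[F] S) := DFunLike.finite _
      have hn : ∀ x : S, (∀ y : S, B.restrict S x y = 0) → x = 0 := by
        intro x hx
        by_contra hx0
        obtain ⟨t, ht, h3⟩ := h2 x x.2 (fun h => hx0 (Subtype.ext h))
        exact h3 (hx ⟨t, ht⟩)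
      have h3 := val_Isos (B := B.restrict S) (m := 1) hp hf hF (fun x => alt x) hn (by rw [h1])
      have h4 := fac_le_of_dvd (p := p) Nat.card_pos.ne' Nat.card_pos.ne' h.ker_dvd
      rw [h3] at h4
      omega

end Cfsg.Agent.H951.Rs

namespace Cfsg.Agent.H951.Rs

open Module Cfsg.Agent.H925.Rs

universe v w

variable {F : Type v} [Field F] {V : Type w} [AddCommGroup V] [Module F V] {B : LinearMap.BilinForm F V} {p f m : ℕ}
  {A C : Subgroup (V ≃ₗ[F] V)} {S : Submodule F V}

theorem Full.aux (P : Pair B p f m A C) (hm : 2 ≤ m) (hS : Full B C S) :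
    (((2 * m - 2) * f ≤ (Nat.card A).factorization p + f.factorization p ∨ (Nat.card A).factorization p ≤ f) ∧
    (Nat.card A).factorization p ≤ (2 * m - 1) * f) ∧
    Nat.card A ∣ 2 * ((p ^ f) ^ (2 * m - 1) * ((p ^ f) ^ (2 * m) - 1)) := by
  have hfF : Finite F := Nat.finite_of_card_ne_zero (by rw [P.card]; exact pow_ne_zero _ P.prime.ne_zero)
  have hfd : FiniteDimensional F V := FiniteDimensional.of_finrank_pos (by rw [P.dim]; omega)
  have hfV : Finite V := Module.finite_of_finite F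
  have hfE : Finite (V ≃ₗ[F] V) := DFunLike.finite _
  obtain ⟨n, rfl⟩ : ∃ n, m = n + 1 := ⟨m - 1, by omega⟩
  obtain ⟨X, hX, hdX, k, hk, hk2⟩ := exists_main P.prime P.hf P.card P.dim P.alt P.nondeg P.leC hS
  have hfX : Finite (X ≃ₗ[F] X) := DFunLike.finite _
  have hvI := val_Isos P.prime P.hf P.card P.alt P.nondeg P.dim
  have hvX := val_Isos (B := B.restrict X) P.prime P.hf P.card (fun x => P.alt x) hX hdX
  have hk0 : k ≠ 0 := by
    rintro rfl
    rw [zero_mul] at hk
    exact Nat.card_pos.ne' hk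
  have hIX0 : Nat.card (Isos (B.restrict X)) ≠ 0 := Nat.card_pos.ne'
  have hvC : (Nat.card C).factorization p = k.factorization p + n ^ 2 * f := by
    rw [hk, Nat.factorization_mul hk0 hIX0, Finsupp.add_apply, hvX]
  have h1 := P.valp
  have h2 := P.valp'
  rw [hvI, hvC] at h1 h2
  have e1 : (n + 1) ^ 2 * f = n ^ 2 * f + 2 * n * f + f := by ring
  have e2 : (2 * (n + 1) - 2) * f = 2 * n * f := by congr 1
  have e3 : (2 * (n + 1) - 1) * f = 2 * n * f + f := by
    rw [show 2 * (n + 1) - 1 = 2 * n + 1 by omega]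
    ring
  rw [e1] at h1 h2
  rw [e2, e3]
  refine ⟨⟨?_, by omega⟩, ?_⟩
  · rcases hk2 with h3 | h3
    · left; omega
    · right; omega
  · have h3 := P.dvd
    have h4 := card_succ (m := n) P.card P.alt P.nondeg P.dim hX hdX
    rw [h4, hk] at h3
    have h5 : Nat.card A * k * Nat.card (Isos (B.restrict X)) ∣
        2 * ((p ^ f) ^ (2 * n + 1) * ((p ^ f) ^ (2 * (n + 1)) - 1)) * Nat.card (Isos (B.restrict X)) := by
      have e4 : Nat.card A * (k * Nat.card (Isos (B.restrict X))) = Nat.card A * k * Nat.card (Isos (B.restrict X)) := by ring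
      have e5 : 2 * (Nat.card (Isos (B.restrict X)) * ((p ^ f) ^ (2 * n + 1) * ((p ^ f) ^ (2 * (n + 1)) - 1))) =
        2 * ((p ^ f) ^ (2 * n + 1) * ((p ^ f) ^ (2 * (n + 1)) - 1)) * Nat.card (Isos (B.restrict X)) := by ring
      rwa [e4, e5] at h3
    have h6 := Nat.dvd_of_mul_dvd_mul_right (Nat.pos_of_ne_zero hIX0) h5
    rw [show 2 * (n + 1) - 1 = 2 * n + 1 by omega]
    exact (Dvd.intro k rfl).trans h6

/-- **N2** -/
theorem Full.dich (P : Pair B p f m A C) (hm : 5 ≤ m) (hS : Full B C S) :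
    ((2 * m - 2) * f ≤ (Nat.card A).factorization p + f.factorization p ∨ (Nat.card A).factorization p ≤ f) ∧
    (Nat.card A).factorization p ≤ (2 * m - 1) * f := (Full.aux P (by omega) hS).1

/-- the order of `A` -/
theorem Full.card_dvd (P : Pair B p f m A C) (hm : 2 ≤ m) (hS : Full B C S) :
    Nat.card A ∣ 2 * ((p ^ f) ^ (2 * m - 1) * ((p ^ f) ^ (2 * m) - 1)) := (Full.aux P hm hS).2

/-- the order of `A` -/
theorem Full.card_le (P : Pair B p f m A C) (hm : 2 ≤ m) (hS : Full B C S) :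
    Nat.card A ≤ 2 * (p ^ f) ^ (2 * m - 1) * ((p ^ f) ^ (2 * m) - 1) := by
  rw [mul_assoc]
  refine Nat.le_of_dvd ?_ (Full.card_dvd P hm hS)
  have h1 : 1 < p ^ f := Nat.one_lt_pow (by have := P.hf; omega) P.prime.one_lt
  have h2 : 1 < (p ^ f) ^ (2 * m) := Nat.one_lt_pow (by omega) h1
  exact Nat.mul_pos (by norm_num) (Nat.mul_pos (pow_pos (by omega) _) (by omega))

end Cfsg.Agent.H951.Rs
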