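import Cfsg.Agent.H925.Rs.Pair

/-!
# Sections of a group of isometries (S3691, N2, helper951)

`Ad B C X Z P` : `P` is a projection onto `X` killing the radical `Z` of `X + Z`, and `C` preserves `Z` and `X + Z`;
`Ad.hom : C →* (X ≃ₗ[F] X)`, with values in the isometries of the restriction of `B`.
-/

set_option autoImplicit false
set_option linter.unusedSectionVars false

namespace Cfsg.Agent.H951.Rs

open Module Cfsg.Agent.H925.Rs

universe v w

variable {F : Type v} [Field F] {V : Type w} [AddCommGroup V] [Module F V] {B : LinearMap.BilinForm F V}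
  {C : Subgroup (V ≃ₗ[F] V)} {X Z : Submodule F V} {P : V →ₗ[F] X}

structure Ad (B : LinearMap.BilinForm F V) (C : Subgroup (V ≃ₗ[F] V)) (X Z : Submodule F V) (P : V →ₗ[F] X) : Prop where
  alt : ∀ x, B x x = 0
  leC : C ≤ Isos B
  px : ∀ x : X, P x = x
  pz : ∀ z ∈ Z, P z = 0
  cz : ∀ c ∈ C, ∀ z ∈ Z, c z ∈ Z
  cx : ∀ c ∈ C, ∀ x : X, c x - P (c x) ∈ Z
  xz : ∀ x : X, ∀ z ∈ Z, B x z = 0
  zz : ∀ z ∈ Z, ∀ z' ∈ Z, B z z' = 0

theorem swap (hB : ∀ x, B x x = 0) (x y : V) : B x y = - B y x := by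
  have h1 := hB (x + y)
  simp only [map_add, LinearMap.add_apply, hB, zero_add, add_zero] at h1
  linear_combination h1

namespace Ad

variable (h : Ad B C X Z P)

include h

theorem decomp {c : V ≃ₗ[F] V} (hc : c ∈ C) (x : X) : ∃ z ∈ Z, c x = P (c x) + z :=
  ⟨c x - P (c x), h.cx c hc x, by abel⟩

/-- the hom to the endomorphisms -/
noncomputable def endo : C →* (X →ₗ[F] X) where
  toFun c := P ∘ₗ (c : V ≃ₗ[F] V).toLinearMap ∘ₗ X.subtype
  map_one' := LinearMap.ext fun x => h.px x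
  map_mul' a b := LinearMap.ext fun x => by
    obtain ⟨z, hz, e⟩ := h.decomp b.2 x
    change P ((a : V ≃ₗ[F] V) ((b : V ≃ₗ[F] V) x)) = P ((a : V ≃ₗ[F] V) (P ((b : V ≃ₗ[F] V) x)))
    conv_lhs => rw [e]
    rw [map_add, map_add, h.pz _ (h.cz _ a.2 _ hz), add_zero]

/-- the hom to the automorphisms of `X` -/
noncomputable def hom : C →* (X ≃ₗ[F] X) :=
  (LinearMap.GeneralLinearGroup.generalLinearEquiv F X).toMonoidHom.comp (MonoidHom.toHomUnits h.endo)

theorem hom_apply (c : C) (x : X) : h.hom c x = P ((c : V ≃ₗ[F] V) x) := rfl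

theorem isom (c : C) : h.hom c ∈ Isos (B.restrict X) := by
  intro x y
  rw [h.hom_apply, h.hom_apply]
  change B (P ((c : V ≃ₗ[F] V) x) : X) (P ((c : V ≃ₗ[F] V) y) : X) = B x y
  obtain ⟨z, hz, e⟩ := h.decomp c.2 x
  obtain ⟨z', hz', e'⟩ := h.decomp c.2 y
  have h1 := h.leC c.2 x y
  rw [e, e', map_add, map_add, LinearMap.add_apply, LinearMap.add_apply, h.xz _ _ hz', h.zz _ hz _ hz',
    swap h.alt z, h.xz _ _ hz] at h1
  rw [← h1]
  ring

theorem mem_ker (c : C) : h.hom c = 1 ↔ ∀ x : X, (c : V ≃ₗ[F] V) x - x ∈ Z := by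
  constructor
  · intro h1 x
    have h2 := h.cx c c.2 x
    rw [← h.hom_apply, h1] at h2
    exact h2
  · intro h1
    apply LinearEquiv.ext
    intro x
    rw [h.hom_apply]
    have h2 := h.pz _ (h1 x)
    rw [map_sub, h.px, sub_eq_zero] at h2
    rw [h2]
    rfl

/-- the order of `C` -/
theorem card_eq : Nat.card C = Nat.card h.hom.ker * Nat.card h.hom.range := by
  rw [← Subgroup.card_mul_index h.hom.ker, Subgroup.index_ker]

theorem range_le : h.hom.range ≤ Isos (B.restrict X) := by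
  rintro _ ⟨c, rfl⟩
  exact h.isom c

/-- surjectivity from lifts -/
theorem range_eq (hs : ∀ y ∈ Isos (B.restrict X), ∃ c ∈ C, ∀ x : X, c x - y x ∈ Z) : h.hom.range = Isos (B.restrict X) := by
  refine le_antisymm h.range_le fun y hy => ?_
  obtain ⟨c, hc, h1⟩ := hs y hy
  refine ⟨⟨c, hc⟩, ?_⟩
  apply LinearEquiv.ext
  intro x
  rw [h.hom_apply]
  have h2 := h.pz _ (h1 x)
  rw [map_sub, h.px, sub_eq_zero] at h2
  exact h2

end Ad

/-- extension of an isometry of `X` by the identity on the orthogonal complement `D` -/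
theorem exists_ext {X D : Submodule F V} (hc : IsCompl X D) (ho : ∀ x ∈ X, ∀ d ∈ D, B x d = 0) (hB : ∀ x, B x x = 0)
    {y : X ≃ₗ[F] X} (hy : y ∈ Isos (B.restrict X)) :
    ∃ g ∈ Isos B, (∀ x : X, g x = y x) ∧ ∀ d ∈ D, g d = d := by
  let E := Submodule.prodEquivOfIsCompl X D hc
  let g : V ≃ₗ[F] V := E.symm.trans ((y.prodCongr (LinearEquiv.refl F D)).trans E)
  have hg : ∀ (x : X) (d : D), g (x + d) = y x + d := by
    intro x d
    change E ((y.prodCongr (LinearEquiv.refl F D)) (E.symm ((x : V) + d))) = _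
    have h1 : E.symm ((x : V) + d) = (x, d) := by
      rw [LinearEquiv.symm_apply_eq]
      exact (Submodule.coe_prodEquivOfIsCompl' X D hc (x, d)).symm
    rw [h1]
    exact Submodule.coe_prodEquivOfIsCompl' X D hc (y x, d)
  refine ⟨g, ?_, fun x => ?_, fun d hd => ?_⟩
  · intro u v
    obtain ⟨x, d, rfl⟩ : ∃ (x : X) (d : D), u = x + d := by
      obtain ⟨⟨x, d⟩, rfl⟩ := E.surjective u
      exact ⟨x, d, Submodule.coe_prodEquivOfIsCompl' X D hc (x, d)⟩
    obtain ⟨x', d', rfl⟩ : ∃ (x : X) (d : D), v = x + d := by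
      obtain ⟨⟨x, d⟩, rfl⟩ := E.surjective v
      exact ⟨x, d, Submodule.coe_prodEquivOfIsCompl' X D hc (x, d)⟩
    rw [hg, hg]
    have h1 : B (y x) (y x') = B x x' := hy x x'
    simp only [map_add, LinearMap.add_apply]
    rw [h1, ho _ (y x).2 _ d'.2, ho _ x.2 _ d'.2, swap hB (d : V) (y x' : V), swap hB (d : V) (x' : V), ho _ (y x').2 _ d.2,
      ho _ x'.2 _ d.2]
  · have := hg x 0
    rwa [ZeroMemClass.coe_zero, add_zero, add_zero] at this
  · have := hg 0 ⟨d, hd⟩
    rw [map_zero, ZeroMemClass.coe_zero, zero_add] at this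
    exact this

end Cfsg.Agent.H951.Rs
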