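import Cfsg.Agent.H951.Rs.Num

/-!
# The unipotent radical of the stabiliser of a point (S3691, N2, helper951)

`Nn B C e` : the elements of `C` trivial on `e` and on `e^⊥ / e`.
* `Pt.card_le_or` : `|N| ≤ q` or `|X| ≤ |N|`
* `Pt.isPGroup` : `N` is a `p`-group
-/

set_option autoImplicit false
set_option linter.unusedSectionVars false

namespace Cfsg.Agent.H951.Rs

open Module Cfsg.Agent.H925.Rs

universe v w

variable {F : Type v} [Field F] {V : Type w} [AddCommGroup V] [Module F V] {B : LinearMap.BilinForm F V}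

/-- `C` stabilises the point `⟨e⟩` and induces everything on `e^⊥ / e` -/
structure Pt (B : LinearMap.BilinForm F V) (C : Subgroup (V ≃ₗ[F] V)) (e f₀ : V) : Prop where
  hp : HP B e f₀
  le : C ≤ Isos B
  st : ∀ c ∈ C, ∃ a : F, c e = a • e
  full : ∀ y ∈ Isos B, y e = e → ∃ c ∈ C, ∀ u, B u e = 0 → ∃ b : F, c u = y u + b • e

/-- the unipotent radical -/
def Nn (C : Subgroup (V ≃ₗ[F] V)) (B : LinearMap.BilinForm F V) (e : V) : Subgroup (V ≃ₗ[F] V) where
  carrier := {c | c ∈ C ∧ c e = e ∧ ∀ u, B u e = 0 → ∃ b : F, c u = u + b • e}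
  mul_mem' := by
    rintro c c' ⟨h1, h2, h3⟩ ⟨h1', h2', h3'⟩
    refine ⟨C.mul_mem h1 h1', ?_, fun u hu => ?_⟩
    · change c (c' e) = e
      rw [h2', h2]
    · obtain ⟨b, hb⟩ := h3 u hu
      obtain ⟨b', hb'⟩ := h3' u hu
      refine ⟨b + b', ?_⟩
      change c (c' u) = _
      rw [hb', map_add, map_smul, h2, hb]
      module
  one_mem' := ⟨C.one_mem, rfl, fun u _ => ⟨0, by rw [zero_smul, add_zero]; rfl⟩⟩
  inv_mem' := by
    rintro c ⟨h1, h2, h3⟩
    have e1 : ∀ v, c⁻¹ (c v) = v := fun v => c.symm_apply_apply v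
    have h4 : c⁻¹ e = e := by
      conv_lhs => rw [← h2]
      exact e1 e
    refine ⟨C.inv_mem h1, h4, fun u hu => ?_⟩
    obtain ⟨b, hb⟩ := h3 u hu
    refine ⟨-b, ?_⟩
    have h5 : c (u + (-b) • e) = u := by
      rw [map_add, map_smul, h2, hb]
      module
    rw [← e1 (u + (-b) • e), h5]

theorem mem_Nn {C : Subgroup (V ≃ₗ[F] V)} {e : V} {c : V ≃ₗ[F] V} :
    c ∈ Nn C B e ↔ c ∈ C ∧ c e = e ∧ ∀ u, B u e = 0 → ∃ b : F, c u = u + b • e := Iff.rfl

namespace Pt

variable {C : Subgroup (V ≃ₗ[F] V)} {e f₀ : V} (h : Pt B C e f₀)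

include h

theorem val {c : V ≃ₗ[F] V} (hc : c ∈ Nn C B e) {u : V} (hu : B u e = 0) : c u = u + B u (f₀ - c f₀) • e := by
  obtain ⟨h1, h2, h3⟩ := hc
  obtain ⟨b, hb⟩ := h3 u hu
  have h4 := h.le h1 u f₀
  have h5 := h.le h1 e f₀
  rw [h2, h.hp.ef] at h5
  rw [hb, map_add, LinearMap.add_apply, map_smul, LinearMap.smul_apply, h5, smul_eq_mul, mul_one] at h4
  rw [hb, map_sub]
  congr 2
  rw [← h4]
  ring

theorem diff {c : V ≃ₗ[F] V} (hc : c ∈ Nn C B e) : B (f₀ - c f₀) e = 0 := by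
  have h1 := h.le hc.1 f₀ e
  rw [hc.2.1] at h1
  rw [map_sub, LinearMap.sub_apply, h1, sub_self]

omit h in
/-- the vectors of the radical -/
def LL (C : Subgroup (V ≃ₗ[F] V)) (B : LinearMap.BilinForm F V) (e : V) : Set V :=
  {x | B x e = 0 ∧ ∃ c ∈ Nn C B e, ∀ u, B u e = 0 → c u = u + B u x • e}

theorem LL_of {c : V ≃ₗ[F] V} (hc : c ∈ Nn C B e) : f₀ - c f₀ ∈ LL C B e := ⟨h.diff hc, c, hc, fun _ hu => h.val hc hu⟩

theorem LL_add {x y : V} (hx : x ∈ LL C B e) (hy : y ∈ LL C B e) : x + y ∈ LL C B e := by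
  obtain ⟨h1, c, hc, h2⟩ := hx
  obtain ⟨h1', c', hc', h2'⟩ := hy
  refine ⟨by rw [map_add, LinearMap.add_apply, h1, h1', add_zero], c * c', (Nn C B e).mul_mem hc hc', fun u hu => ?_⟩
  change c (c' u) = _
  rw [h2' u hu, map_add, map_smul, hc.2.1, h2 u hu, map_add]
  module

theorem LL_neg {x : V} (hx : x ∈ LL C B e) : -x ∈ LL C B e := by
  obtain ⟨h1, c, hc, h2⟩ := hx
  refine ⟨by rw [map_neg, LinearMap.neg_apply, h1, neg_zero], c⁻¹, (Nn C B e).inv_mem hc, fun u hu => ?_⟩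
  have e1 : ∀ v, c⁻¹ (c v) = v := fun v => c.symm_apply_apply v
  have h3 : c (u + B u (-x) • e) = u := by
    rw [map_add, map_smul, hc.2.1, h2 u hu, map_neg]
    module
  rw [← e1 (u + B u (-x) • e), h3]

theorem LL_smul_e {x : V} (hx : x ∈ LL C B e) (a : F) : x + a • e ∈ LL C B e := by
  obtain ⟨h1, c, hc, h2⟩ := hx
  refine ⟨by rw [map_add, LinearMap.add_apply, h1, map_smul, LinearMap.smul_apply, h.hp.alt, smul_zero, add_zero], c, hc,
    fun u hu => ?_⟩
  rw [h2 u hu, map_add, map_smul, hu, smul_zero, add_zero]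

theorem LL_conj {g : V ≃ₗ[F] V} (hg : g ∈ C) (hge : g e = e) {x : V} (hx : x ∈ LL C B e) : g x ∈ LL C B e := by
  obtain ⟨h1, c, hc, h2⟩ := hx
  have e1 : ∀ v, g (g⁻¹ v) = v := fun v => g.apply_symm_apply v
  have e2 : ∀ v, g⁻¹ (g v) = v := fun v => g.symm_apply_apply v
  have hge' : g⁻¹ e = e := by
    conv_lhs => rw [← hge]
    exact e2 e
  have h3 : ∀ u v, B (g⁻¹ u) v = B u (g v) := fun u v => by rw [← h.le hg (g⁻¹ u) v, e1]
  have h4 : ∀ u, B u e = 0 → B (g⁻¹ u) e = 0 := fun u hu => by rw [h3, hge, hu]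
  have h5 : ∀ u, B u e = 0 → (g * c * g⁻¹) u = u + B u (g x) • e := by
    intro u hu
    change g (c (g⁻¹ u)) = _
    rw [h2 _ (h4 u hu), map_add, map_smul, hge, e1, h3]
  refine ⟨?_, g * c * g⁻¹, ⟨C.mul_mem (C.mul_mem hg hc.1) (C.inv_mem hg), ?_, fun u hu => ⟨_, h5 u hu⟩⟩, h5⟩
  · rw [← h1, ← h.le hg x e, hge]
  · change g (c (g⁻¹ e)) = e
    rw [hge', hc.2.1, hge]

/-- transvections are induced by elements of `C` fixing `e` -/
theorem exists_tv [Finite F] {p f : ℕ} (hp : p.Prime) (hf : 1 ≤ f) (hF : Nat.card F = p ^ f) {d : V} (hd : B d e = 0)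
    (a : F) : ∃ g ∈ C, g e = e ∧ ∀ u, B u e = 0 → ∃ b : F, g u = u + (a * B u d) • d + b • e := by
  have : Fintype F := Fintype.ofFinite F
  have hc : Fintype.card F = p ^ f := by rw [← Nat.card_eq_fintype_card, hF]
  have hpF : (p : F) = 0 := by
    have h1 := Nat.cast_card_eq_zero F
    rw [hc] at h1
    push_cast at h1
    exact pow_eq_zero_iff (by omega : f ≠ 0) |>.1 h1
  have hd' : (a • B.flip d) d = 0 := by
    change a • B d d = 0
    rw [h.hp.alt, smul_zero]
  set t : V ≃ₗ[F] V := LinearEquiv.transvection hd' with ht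
  have ht1 : ∀ v, t v = v + (a * B v d) • d := fun v => rfl
  have htI : t ∈ Isos B := by
    intro u v
    rw [ht1, ht1]
    simp only [map_add, LinearMap.add_apply, map_smul, LinearMap.smul_apply, smul_eq_mul, h.hp.alt]
    rw [swap h.hp.alt d v]
    ring
  have hed : B e d = 0 := by rw [swap h.hp.alt, hd, neg_zero]
  have hte : t e = e := by rw [ht1, hed, mul_zero, zero_smul, add_zero]
  obtain ⟨g, hg, h1⟩ := h.full t htI hte
  obtain ⟨l, hl⟩ := h.st g hg
  have hpow : ∀ j : ℕ, ∀ u, B u e = 0 → ∃ b : F, (g ^ j) u = u + (j : F) • (a * B u d) • d + b • e := by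
    intro j
    induction j with
    | zero => exact fun u _ => ⟨0, by rw [pow_zero, Nat.cast_zero, zero_smul, zero_smul, add_zero, add_zero]; rfl⟩
    | succ j ih =>
      intro u hu
      obtain ⟨b, hb⟩ := ih u hu
      obtain ⟨b1, hb1⟩ := h1 u hu
      obtain ⟨b2, hb2⟩ := h1 d hd
      refine ⟨b1 + (j : F) * (a * B u d) * b2 + b * l, ?_⟩
      rw [pow_succ']
      change g ((g ^ j) u) = _
      rw [hb, map_add, map_add, map_smul, map_smul, map_smul, hb1, hb2, hl, ht1, ht1, h.hp.alt, mul_zero, zero_smul,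
        add_zero]
      push_cast
      module
  have hl0 : l ≠ 0 := by
    rintro rfl
    rw [zero_smul] at hl
    have h2 := h.le hg e f₀
    rw [hl, map_zero, LinearMap.zero_apply, h.hp.ef] at h2
    exact zero_ne_one h2
  have hpowe : ∀ j : ℕ, (g ^ j) e = l ^ j • e := by
    intro j
    induction j with
    | zero => rw [pow_zero, pow_zero, one_smul]; rfl
    | succ j ih =>
      rw [pow_succ']
      change g ((g ^ j) e) = _
      rw [ih, map_smul, hl, smul_smul, pow_succ]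
  have hM : (((p ^ f - 1) * (p - 1) : ℕ) : F) = 1 := by
    rw [Nat.cast_mul, Nat.cast_sub (Nat.one_le_pow _ _ hp.pos), Nat.cast_sub hp.one_lt.le, Nat.cast_pow, hpF,
      zero_pow (by omega : f ≠ 0)]
    push_cast
    ring
  refine ⟨g ^ ((p ^ f - 1) * (p - 1)), C.pow_mem hg _, ?_, fun u hu => ?_⟩
  · rw [hpowe, pow_mul, ← hc, FiniteField.pow_card_sub_one_eq_one l hl0, one_pow, one_smul]
  · obtain ⟨b, hb⟩ := hpow ((p ^ f - 1) * (p - 1)) u hu
    refine ⟨b, ?_⟩
    rw [hb, hM, one_smul]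

theorem LL_tv [Finite F] {p f : ℕ} (hp : p.Prime) (hf : 1 ≤ f) (hF : Nat.card F = p ^ f) {x d : V} (hx : x ∈ LL C B e)
    (hd : B d e = 0) (hxd : B x d ≠ 0) : d ∈ LL C B e := by
  obtain ⟨g, hg, hge, h1⟩ := h.exists_tv hp hf hF hd (B x d)⁻¹
  obtain ⟨b, hb⟩ := h1 x hx.1
  rw [inv_mul_cancel₀ hxd, one_smul] at hb
  have h2 := h.LL_add (h.LL_smul_e (h.LL_conj hg hge hx) (-b)) (h.LL_neg hx)
  rw [hb] at h2
  have h3 : x + d + b • e + (-b) • e + -x = d := by module
  rwa [h3] at h2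

/-- everything, if there is one vector outside `⟨e⟩` -/
theorem LL_all [Finite F] {p f : ℕ} (hp : p.Prime) (hf : 1 ≤ f) (hF : Nat.card F = p ^ f) {x : V} (hx : x ∈ LL C B e)
    (hxe : ∀ a : F, x ≠ a • e) {d : V} (hd : B d e = 0) : d ∈ LL C B e := by
  obtain ⟨d₀, hd₀, h1⟩ : ∃ d₀, B d₀ e = 0 ∧ B x d₀ ≠ 0 := by
    by_contra hcon
    push Not at hcon
    apply hxe (B x f₀)
    have h2 : h.hp.P x = 0 := by
      refine h.hp.nd_X _ fun y => ?_
      change B (h.hp.P x : V) y = 0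
      rw [HP.P_apply, hx.1, zero_smul, add_zero, map_sub, LinearMap.sub_apply, map_smul, LinearMap.smul_apply,
        swap h.hp.alt e y, y.2.1, neg_zero, smul_zero, sub_zero]
      exact hcon _ y.2.1
    have h3 := h.hp.sub_P x
    rw [h2, ZeroMemClass.coe_zero, sub_zero, hx.1, zero_smul, sub_zero] at h3
    exact h3
  by_cases hxd : B x d = 0
  · have h2 : d + d₀ ∈ LL C B e := h.LL_tv hp hf hF hx (by rw [map_add, LinearMap.add_apply, hd, hd₀, add_zero])
      (by rw [map_add, hxd, zero_add]; exact h1)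
    have h3 := h.LL_add h2 (h.LL_neg (h.LL_tv hp hf hF hx hd₀ h1))
    rwa [add_neg_cancel_right] at h3
  · exact h.LL_tv hp hf hF hx hd hxd

theorem ext_of {c c' : V ≃ₗ[F] V} (h1 : ∀ u, B u e = 0 → c u = c' u) (h2 : c f₀ = c' f₀) : c = c' := by
  apply LinearEquiv.ext
  intro v
  have h3 : B (v + B v e • f₀) e = 0 := by
    rw [map_add, LinearMap.add_apply, map_smul, LinearMap.smul_apply, h.hp.fe, smul_eq_mul]
    ring
  have h4 := h1 _ h3
  rw [map_add, map_add, map_smul, map_smul, h2] at h4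
  exact add_right_cancel h4

/-- **the dichotomy** -/
theorem card_le_or [Finite F] [FiniteDimensional F V] {p f : ℕ} (hp : p.Prime) (hf : 1 ≤ f) (hF : Nat.card F = p ^ f) :
    Nat.card (Nn C B e) ≤ Nat.card F ∨ Nat.card (HP.X B e f₀) ≤ Nat.card (Nn C B e) := by
  have hfV : Finite V := Module.finite_of_finite F
  have hfE : Finite (V ≃ₗ[F] V) := DFunLike.finite _
  by_cases hA : ∃ x ∈ LL C B e, ∀ a : F, x ≠ a • e
  · right
    obtain ⟨x, hx, hxe⟩ := hA
    have h1 : ∀ y : HP.X B e f₀, ∃ c ∈ Nn C B e, ∀ u, B u e = 0 → c u = u + B u y • e := fun y =>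
      (h.LL_all hp hf hF hx hxe y.2.1).2
    choose c hc hcu using h1
    refine Nat.card_le_card_of_injective (fun y => (⟨c y, hc y⟩ : Nn C B e)) ?_
    intro y y' hyy
    have h2 : c y = c y' := congrArg Subtype.val hyy
    rw [← sub_eq_zero]
    refine h.hp.nd_X _ fun z => ?_
    change B ((y : V) - y') z = 0
    have h3 := hcu y z z.2.1
    rw [h2, hcu y' z z.2.1] at h3
    have h4 := add_left_cancel h3
    have h5 := smul_left_injective F h.hp.e_ne h4
    rw [swap h.hp.alt, map_sub, ← h5]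
    change -(B (z : V) (y' : V) - B (z : V) (y' : V)) = 0
    rw [sub_self, neg_zero]
  · left
    push Not at hA
    refine Nat.card_le_card_of_injective (fun c : Nn C B e => B ((c : V ≃ₗ[F] V) f₀) f₀) ?_
    intro c c' hcc
    apply Subtype.ext
    obtain ⟨a, ha⟩ := hA _ (h.LL_of c.2)
    obtain ⟨a', ha'⟩ := hA _ (h.LL_of c'.2)
    have e1 : (c : V ≃ₗ[F] V) f₀ = f₀ - a • e := by rw [← ha]; abel
    have e2 : (c' : V ≃ₗ[F] V) f₀ = f₀ - a' • e := by rw [← ha']; abel
    have h1 : B ((c : V ≃ₗ[F] V) f₀) f₀ = B ((c' : V ≃ₗ[F] V) f₀) f₀ := hcc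
    rw [e1, e2, map_sub, map_sub, LinearMap.sub_apply, LinearMap.sub_apply, map_smul, map_smul, LinearMap.smul_apply,
      LinearMap.smul_apply, h.hp.ef, h.hp.alt, smul_eq_mul, smul_eq_mul, mul_one, mul_one] at h1
    have h2 : a = a' := by linear_combination -h1
    refine h.ext_of (fun u hu => ?_) (by rw [e1, e2, h2])
    rw [h.val c.2 hu, h.val c'.2 hu, ha, ha', h2]

/-- `N` is a `p`-group -/
theorem isPGroup {p : ℕ} [Fact p.Prime] [CharP F p] : IsPGroup p (Nn C B e) := by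
  have hnt : Nontrivial V := ⟨e, 0, h.hp.e_ne⟩
  have hch : CharP (Module.End F V) p := charP_of_injective_algebraMap (FaithfulSMul.algebraMap_injective F (Module.End F V)) p
  rintro ⟨c, hc⟩
  refine ⟨2, Subtype.ext ?_⟩
  change c ^ p ^ 2 = 1
  set T : Module.End F V := LinearEquiv.automorphismGroup.toLinearMapMonoidHom c with hT
  have hTv : ∀ v, T v = c v := fun v => rfl
  have h3 : (T - 1 : Module.End F V) ^ 3 = 0 := by
    apply LinearMap.ext
    intro v
    have e1 : ∀ v, (T - 1 : Module.End F V) v = c v - v := fun v => rfl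
    have a1 : ((T - 1) ^ 3 : Module.End F V) v = (T - 1 : Module.End F V) ((T - 1 : Module.End F V) ((T - 1 : Module.End F V) v)) := by
      rw [pow_succ, pow_two]
      rfl
    rw [a1, LinearMap.zero_apply, e1 v]
    have a2 : B (c v - v) e = 0 := by
      have a3 := h.le hc.1 v e
      rw [hc.2.1] at a3
      rw [map_sub, LinearMap.sub_apply, a3, sub_self]
    rw [e1 (c v - v), h.val hc a2, add_sub_cancel_left, e1, map_smul, hc.2.1, sub_self]
  have h4 : (T - 1 : Module.End F V) ^ p ^ 2 = 0 := by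
    have h5 : 3 ≤ p ^ 2 := by
      have := (Fact.out : p.Prime).two_le
      nlinarith
    rw [← Nat.sub_add_cancel h5, pow_add, h3, mul_zero]
  rw [sub_pow_char_pow_of_commute _ _ (Commute.one_right T), one_pow, sub_eq_zero, hT, ← map_pow] at h4
  apply LinearEquiv.ext
  intro v
  exact LinearMap.congr_fun h4 v

end Pt

end Cfsg.Agent.H951.Rs
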